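import Mathlib
import Cfsg.Agent.H613.KS.Defs

/-!
# S4577 (helper766): the action of `y` on `D = 2^4` (stub D4)

`y` a 5-element, irreducible on the elementary abelian group `D` of order 16: `y^5` centralises `D`, every orbit on
`D#` has length 5, product 1, and generates `D`.
-/

set_option autoImplicit false

open Cfsg Cfsg.Agent.H613.KS

universe u
namespace Cfsg.Agent.H766.KS

section basic
variable {S : Type u} [Group S] {D : Subgroup S} {y : S}

theorem E16.comm (h : E16 D) {a b : S} (ha : a ∈ D) (hb : b ∈ D) : a * b = b * a := by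
  have h1 := h.inv a ha
  have h2 := h.inv b hb
  have h3 := h.inv _ (D.mul_mem ha hb)
  have ha' : a⁻¹ = a := inv_eq_of_mul_eq_one_right h1
  have hb' : b⁻¹ = b := inv_eq_of_mul_eq_one_right h2
  have h4 : (a * b)⁻¹ = a * b := inv_eq_of_mul_eq_one_right h3
  rw [← h4, mul_inv_rev, ha', hb']

/-- conjugation by powers of `y` -/
def cj (y : S) (i : ℕ) (d : S) : S := y ^ i * d * (y ^ i)⁻¹

theorem cj_zero (d : S) : cj y 0 d = d := by simp [cj]

theorem cj_succ (i : ℕ) (d : S) : cj y (i + 1) d = y * cj y i d * y⁻¹ := by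
  simp only [cj, pow_succ']
  group

theorem cj_add (i j : ℕ) (d : S) : cj y (i + j) d = cj y i (cj y j d) := by
  simp only [cj, pow_add]
  group

theorem cj_mul (i : ℕ) (a b : S) : cj y i (a * b) = cj y i a * cj y i b := by
  simp only [cj]
  group

theorem cj_one (i : ℕ) : cj y i (1 : S) = 1 := by simp [cj]

theorem cj_inj (i : ℕ) {a b : S} (h : cj y i a = cj y i b) : a = b := by
  simpa [cj] using h

theorem cj_mem (hy : Five D y) (i : ℕ) {d : S} (hd : d ∈ D) : cj y i d ∈ D := by
  induction i with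
  | zero => simpa [cj] using hd
  | succ i ih =>
    rw [cj_succ]
    exact (hy.norm _).2 ih

theorem ne_comm (h : E16 D) (hy : Five D y) {d : S} (hd : d ∈ D) (h1 : d ≠ 1) : y * d ≠ d * y := by
  intro hc
  have hcj : y * d * y⁻¹ = d := by rw [hc]; group
  have hle : Subgroup.zpowers d ≤ D := by
    rw [Subgroup.zpowers_le]; exact hd
  rcases hy.irr (Subgroup.zpowers d) hle (by
    intro a ha
    rw [Subgroup.mem_zpowers_iff] at ha ⊢
    obtain ⟨n, rfl⟩ := ha
    refine ⟨n, ?_⟩
    rw [← conj_zpow, hcj]) with h2 | h2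
  · rw [Subgroup.zpowers_eq_bot] at h2
    exact h1 h2
  · have hc : Nat.card (Subgroup.zpowers d) = 16 := by rw [h2]; exact h.card
    rw [Nat.card_zpowers] at hc
    have : orderOf d ∣ 2 := orderOf_dvd_of_pow_eq_one (by rw [pow_two]; exact h.inv d hd)
    have := Nat.le_of_dvd (by norm_num) this
    omega

theorem five_comm (h : E16 D) (hy : Five D y) {d : S} (hd : d ∈ D) : cj y 5 d = d := by
  classical
  -- the conjugation action of `y` on `D`
  haveI : Finite D := Nat.finite_of_card_ne_zero (by rw [h.card]; norm_num)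
  haveI : Fintype D := Fintype.ofFinite D
  by_cases h1 : d = 1
  · subst h1; exact cj_one 5
  let f : Equiv.Perm D :=
    { toFun := fun x => ⟨y * x * y⁻¹, (hy.norm x).2 x.2⟩
      invFun := fun x => ⟨y⁻¹ * x * y, by
        rw [← hy.norm]
        have : y * (y⁻¹ * x * y) * y⁻¹ = (x : S) := by group
        rw [this]; exact x.2⟩
      left_inv := fun x => by ext; simp; group
      right_inv := fun x => by ext; simp; group }
  have hf : ∀ (i : ℕ) (x : D), (((f ^ i) x : D) : S) = cj y i x := by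
    intro i
    induction i with
    | zero => intro x; simp [cj]
    | succ i ih =>
      intro x
      rw [pow_succ', Equiv.Perm.mul_apply]
      change y * (((f ^ i) x : D) : S) * y⁻¹ = _
      rw [ih, cj_succ]
  obtain ⟨m, hm⟩ := hy.five
  have hfm : f ^ (5 ^ m) = 1 := by
    ext x
    rw [hf, cj, ← hm, pow_orderOf_eq_one]
    simp
  have hford : ∃ j, orderOf f = 5 ^ j := by
    have := orderOf_dvd_of_pow_eq_one hfm
    obtain ⟨j, _, hj⟩ := (Nat.dvd_prime_pow (by norm_num)).1 this
    exact ⟨j, hj⟩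
  -- the order of f is 5 : use the cycle type
  obtain ⟨j, hj⟩ := hford
  -- each orbit of the group generated by f on D has 5-power size at most 15
  have key : ((f ^ 5) ⟨d, hd⟩ : D) = ⟨d, hd⟩ := by
    have hper : Function.minimalPeriod f ⟨d, hd⟩ ∣ 5 ^ m := by
      apply Function.IsPeriodicPt.minimalPeriod_dvd
      change (f^[5 ^ m]) _ = _
      rw [← Equiv.Perm.coe_pow, hfm]; rfl
    obtain ⟨r, _, hr⟩ := (Nat.dvd_prime_pow (by norm_num)).1 hper
    have hle : Function.minimalPeriod f ⟨d, hd⟩ ≤ 16 := by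
      have := Function.minimalPeriod_le_card (f := f) (x := (⟨d, hd⟩ : D))
      rw [← h.card, Nat.card_eq_fintype_card]
      exact this
    have hr2 : r < 2 := by
      by_contra hcon
      push_neg at hcon
      have : 5 ^ 2 ≤ 5 ^ r := Nat.pow_le_pow_right (by norm_num) hcon
      omega
    have hdv : Function.minimalPeriod f ⟨d, hd⟩ ∣ 5 := by
      rw [hr]
      interval_cases r <;> norm_num
    have := (Function.isPeriodicPt_iff_minimalPeriod_dvd).2 hdv
    change (f^[5]) _ = _ at this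
    rw [← Equiv.Perm.coe_pow] at this
    exact this
  have := congrArg (Subtype.val) key
  rw [hf] at this
  exact this

theorem orb_prod (h : E16 D) (hy : Five D y) {d : S} (hd : d ∈ D) :
    d * cj y 1 d * cj y 2 d * cj y 3 d * cj y 4 d = 1 := by
  by_contra hne
  have hm : d * cj y 1 d * cj y 2 d * cj y 3 d * cj y 4 d ∈ D :=
    D.mul_mem (D.mul_mem (D.mul_mem (D.mul_mem hd (cj_mem hy 1 hd)) (cj_mem hy 2 hd)) (cj_mem hy 3 hd))
      (cj_mem hy 4 hd)
  refine ne_comm h hy hm hne ?_
  have h1 : cj y 1 (d * cj y 1 d * cj y 2 d * cj y 3 d * cj y 4 d) =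
      d * cj y 1 d * cj y 2 d * cj y 3 d * cj y 4 d := by
    rw [cj_mul, cj_mul, cj_mul, cj_mul, ← cj_add, ← cj_add, ← cj_add, ← cj_add, five_comm h hy hd]
    norm_num
    rw [E16.comm h (D.mul_mem (D.mul_mem (D.mul_mem (cj_mem hy 1 hd) (cj_mem hy 2 hd)) (cj_mem hy 3 hd))
      (cj_mem hy 4 hd)) hd]
    simp only [mul_assoc]
  simp only [cj, pow_one] at h1
  simp only [cj, pow_one]
  rw [mul_inv_eq_iff_eq_mul] at h1
  exact h1

theorem closure_orbit (h : E16 D) (hy : Five D y) {d : S} (hd : d ∈ D) (h1 : d ≠ 1) :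
    Subgroup.closure {e : S | ∃ i : ℕ, e = cj y i d} = D := by
  have hle : Subgroup.closure {e : S | ∃ i : ℕ, e = cj y i d} ≤ D := by
    rw [Subgroup.closure_le]
    rintro _ ⟨i, rfl⟩
    exact cj_mem hy i hd
  rcases hy.irr _ hle (by
    intro a ha
    induction ha using Subgroup.closure_induction with
    | mem x hx =>
      obtain ⟨i, rfl⟩ := hx
      apply Subgroup.subset_closure
      exact ⟨i + 1, by rw [cj_succ]⟩
    | one => simpa using Subgroup.one_mem _
    | mul a b _ _ ha hb =>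
      have : y * (a * b) * y⁻¹ = (y * a * y⁻¹) * (y * b * y⁻¹) := by group
      rw [this]
      exact Subgroup.mul_mem _ ha hb
    | inv a _ ha =>
      have : y * a⁻¹ * y⁻¹ = (y * a * y⁻¹)⁻¹ := by group
      rw [this]
      exact Subgroup.inv_mem _ ha) with h2 | h2
  · exfalso
    apply h1
    have : d ∈ Subgroup.closure {e : S | ∃ i : ℕ, e = cj y i d} :=
      Subgroup.subset_closure ⟨0, (cj_zero d).symm⟩
    rw [h2] at this
    exact Subgroup.mem_bot.1 this
  · exact h2

end basic

/-- stub D4 of tools/plans/S4577_stubs.lean.txt -/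
theorem D4 {S : Type u} [Group S] [Finite S] {D : Subgroup S} (h : E16 D) {y : S} (hy : Five D y) :
    (∀ d ∈ D, y ^ 5 * d = d * y ^ 5) ∧ (∀ d ∈ D, d ≠ 1 → y * d ≠ d * y) ∧
    (∀ d ∈ D, d * (y * d * y⁻¹) * (y ^ 2 * d * (y ^ 2)⁻¹) * (y ^ 3 * d * (y ^ 3)⁻¹) *
      (y ^ 4 * d * (y ^ 4)⁻¹) = 1) ∧
    (∀ d ∈ D, d ≠ 1 → Subgroup.closure {e : S | ∃ i : ℕ, e = y ^ i * d * (y ^ i)⁻¹} = D) := by
  refine ⟨?_, ?_, ?_, ?_⟩
  · intro d hd
    have := five_comm h hy hd
    rw [cj, mul_inv_eq_iff_eq_mul] at this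
    exact this
  · intro d hd h1
    exact ne_comm h hy hd h1
  · intro d hd
    have := orb_prod h hy hd
    simpa only [cj, pow_one] using this
  · intro d hd h1
    exact closure_orbit h hy hd h1

end Cfsg.Agent.H766.KS
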